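import Cfsg.Agent.Lib.TrialityEight.Weyl
import Cfsg.Agent.Lib.AltSections.TorusSylow
import Cfsg.Agent.Lib.TrialityTorus.Torus
import Cfsg.Agent.Lib.Twisted.Core.D4Group
import Cfsg.Agent.Lib.Chev.PoincareD4

/-!
No element of order seven in the centralizer of an involution of a triality group is sent to its square
by an element centralizing the involution.
-/

set_option autoImplicit false

namespace Cfsg.Agent.Lib.TrialityEight

open Cfsg.Lie Cfsg.Agent.Lib.Chev Cfsg.Agent.Lib.H59.Homocyclic Cfsg.Agent.Lib.AltSections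

/-- The signs of the triality-stable involution. -/
def signC (K : Type*) [Field K] (i : ℕ) : Kˣ := if i = 1 then 1 else -1

theorem invT_mem {K : Type*} [Field K] [Fintype K] {q : ℕ} (hq : IsPrimePow q) (hK : Fintype.card K = q ^ 3) :
    torusHom chevD4 K (signC K) ∈ twistedD4 K q := by
  obtain ⟨φ, hφ, -⟩ := Twisted.Core.d4_powAut hq hK
  have e : torusHom chevD4 K (signC K) = torusHom chevD4 K (TrialityTorus.orbitParam φ.toRingHom (-1) 1) := by
    refine ChevField.torusHom_congr fun i hi => ?_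
    change i < 4 at hi
    interval_cases i <;> refine Units.ext ?_ <;> simp [signC, TrialityTorus.orbitParam]
  rw [e]
  exact TrialityTorus.orbit_mem q φ.toRingHom hφ (-1) 1 (map_one _)

/-- The involution as an element of the twisted group. -/
noncomputable def invT {K : Type*} [Field K] [Fintype K] {q : ℕ} (hq : IsPrimePow q)
    (hK : Fintype.card K = q ^ 3) : ↥(twistedD4 K q) :=
  ⟨torusHom chevD4 K (signC K), invT_mem hq hK⟩

theorem signC_simple {K : Type*} [Field K] : torusFun chevD4 (signC K) (chevD4.simple 1) = -1 := by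
  refine Units.ext ?_
  rw [(TrialityTorus.torusFun_simples (signC K)).2.1]
  simp [signC]

theorem orderOf_invT {K : Type*} [Field K] [Fintype K] {q : ℕ} (hq : IsPrimePow q)
    (hK : Fintype.card K = q ^ 3) (h2 : (2 : K) ≠ 0) : orderOf (invT hq hK) = 2 := by
  refine orderOf_eq_prime ?_ fun h => ?_
  · refine Subtype.ext ?_
    rw [SubmonoidClass.coe_pow, invT, ← map_pow, OneMemClass.coe_one, ← map_one (torusHom chevD4 K)]
    congr 1
    funext i
    simp [signC]
  · have e := congrArg (fun g : ↥(twistedD4 K q) => (g : GL chevD4.Idx K).1 (Sum.inr ⟨14, by decide⟩)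
      (Sum.inr ⟨14, by decide⟩)) h
    simp only [invT, coe_torusHom, ChevalleyDatum.charDiag, Matrix.diagonal_apply_eq, Sum.elim_inr,
      OneMemClass.coe_one, Units.val_one, Matrix.one_apply_eq] at e
    rw [show (14 : ℕ) = chevD4.simple 1 from rfl, signC_simple, Units.val_neg, Units.val_one] at e
    exact h2 (by linear_combination -e)

theorem par_check : ∀ l : Fin chevD4.rank, (∑ x : Fin chevD4.rank,
    ((chevD4.cartan x.val (chevD4.simple l.val) : ℤ) : ZMod 2) * if x.val = 1 then 0 else 1) =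
      (((if l.val = 1 then 1 else 0 : ℤ)) : ZMod 2) := by
  decide +kernel

theorem not_seven_centralized {K : Type*} [Field K] [Fintype K] (p : ℕ) [Fact p.Prime] [CharP K p] {q : ℕ}
    (hq : IsPrimePow q) (hK : Fintype.card K = q ^ 3) (h2q : ¬ 2 ∣ q) (h7q : ¬ 7 ∣ q)
    (z x g : ↥(twistedD4 K q)) (hz : IsConj z (invT hq hK)) (hx1 : x ≠ 1) (hx7 : x ^ 7 = 1)
    (hxz : Commute x z) (hgz : Commute g z) (hgx : g * x * g⁻¹ = x ^ 2) : False := by
  classical
  haveI : Fact (Nat.Prime 7) := ⟨by norm_num⟩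
  have hh := Triality.rooted_four
  obtain ⟨k, hk⟩ := isConj_iff.1 hz
  let L := FiniteField.Extension K p 6
  letI : Fintype L := Fintype.ofFinite L
  have hL : Fintype.card L = q ^ 18 := by
    rw [← Nat.card_eq_fintype_card, FiniteField.natCard_extension, Nat.card_eq_fintype_card, hK, ← pow_mul]
  have hL7 : Fintype.card L % 7 = 1 := by
    rw [hL, Nat.pow_mod]
    have hlt : q % 7 < 7 := Nat.mod_lt _ (by norm_num)
    rw [Nat.dvd_iff_mod_eq_zero] at h7q
    generalize q % 7 = r at hlt h7q ⊢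
    interval_cases r <;> first | omega | norm_num
  have hL2 : Fintype.card L % 2 = 1 := by
    rw [hL, Nat.pow_mod, show q % 2 = 1 by omega]
  obtain ⟨φ, hφ, -⟩ := Twisted.Core.d4_powAut hq hK
  let ι : K →+* L := algebraMap K L
  let j : ↥(twistedD4 K q) →* ↥(chevD4.group L) :=
    ((ChevField.glMap chevD4 ι).comp (twistedD4 K q).subtype).codRestrict _ fun u =>
      ChevField.glMap_group_le ι (Subgroup.mem_map_of_mem _
        (TrialityTorus.fixed_of_mem q hK φ.toRingHom hφ u.2).1)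
  have hj : Function.Injective j := fun u v e =>
    Subtype.ext (ChevField.glMap_injective ι (congrArg Subtype.val e))
  set T₀ := j (invT hq hK) with hT₀
  set X := j (k * x * k⁻¹) with hX
  set G := j (k * g * k⁻¹) with hG
  have hXT : Commute X T₀ := by
    rw [hX, hT₀, ← hk]
    exact ((hxz.map (MulAut.conj k).toMonoidHom).map j)
  have hGT : Commute G T₀ := by
    rw [hG, hT₀, ← hk]
    exact ((hgz.map (MulAut.conj k).toMonoidHom).map j)
  have hX7 : X ^ 7 = 1 := by rw [hX, ← map_pow, conj_pow, hx7]; simp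
  have hX1 : X ≠ 1 := fun e => hx1 (conj_eq_one_iff.1 (hj (e.trans (map_one j).symm)))
  have hGX : G * X * G⁻¹ = X ^ 2 := by
    rw [hG, hX, ← map_inv, ← map_mul, ← map_mul, ← map_pow, conj_pow, ← hgx]
    congr 1
    group
  -- the centralizer of the involution contains a Sylow 7-subgroup of the torus
  have hT₀T : (T₀ : GL chevD4.Idx L) = torusHom chevD4 L (signC L) := by
    show ChevField.glMap chevD4 ι (torusHom chevD4 K (signC K)) = _
    rw [ChevField.glMap_torusHom]
    congr 1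
    funext i
    refine Units.ext ?_
    by_cases hi : i = 1 <;> simp [signC, hi]
  have hT₀D : (T₀ : GL chevD4.Idx L) ∈ chevD4.diagonalSubgroup L := by
    rw [hT₀T, hh.diagonalSubgroup_eq]; exact ⟨_, rfl⟩
  set T := (chevD4.diagonalSubgroup L).subgroupOf (chevD4.group L)
  set Cz := Subgroup.centralizer ({T₀} : Set ↥(chevD4.group L))
  have hTC : T ≤ Cz := fun t ht =>
    Subgroup.mem_centralizer_singleton_iff.2 (Subtype.ext (hh.diagonal_commute ht hT₀D))
  have hidx : ¬ 7 ∣ (T.subgroupOf Cz).index := fun hd =>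
    not_dvd_index_diagonal hh D4.smith_ok D4.chain_ok D4.poly_ok rfl (K := L) (by norm_num : Nat.Prime 7) hL7
      (by decide) (hd.trans (Dvd.intro _ (Subgroup.relIndex_mul_index hTC)))
  have hXC : X ∈ Cz := Subgroup.mem_centralizer_singleton_iff.2 hXT.eq
  obtain ⟨P⟩ : Nonempty (Sylow 7 ↥(T.subgroupOf Cz)) := inferInstance
  let P₀ : Subgroup Cz := (P : Subgroup _).map (T.subgroupOf Cz).subtype
  have hP₀ : ¬ 7 ∣ P₀.index := by
    rw [Subgroup.index_map_subtype, (by norm_num : Nat.Prime 7).dvd_mul]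
    exact not_or.2 ⟨P.not_dvd_index, hidx⟩
  let Q : Sylow 7 Cz := (P.2.map _ : IsPGroup 7 P₀).toSylow hP₀
  obtain ⟨R, hR⟩ := (IsPGroup.of_card (p := 7) (n := 1) (by
    rw [Nat.card_zpowers, orderOf_eq_prime (show (⟨X, hXC⟩ : Cz) ^ 7 = 1 from Subtype.ext hX7)
      (fun e => hX1 (congrArg Subtype.val e)), pow_one]) : IsPGroup 7 (Subgroup.zpowers (⟨X, hXC⟩ : Cz))).exists_le_sylow
  obtain ⟨c, hc⟩ := MulAction.exists_smul_eq Cz R Q
  have hcX : c * ⟨X, hXC⟩ * c⁻¹ ∈ (Q : Subgroup Cz) := by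
    rw [← hc, Sylow.coe_subgroup_smul]
    exact Subgroup.smul_mem_pointwise_smul _ (MulAut.conj c) _ (hR (Subgroup.mem_zpowers _))
  obtain ⟨y', -, hy'⟩ := hcX
  set h : ↥(chevD4.group L) := (c : ↥(chevD4.group L))
  have hhT : Commute h T₀ := Subgroup.mem_centralizer_singleton_iff.1 c.2
  set Y := h * X * h⁻¹ with hY
  have hYT : (Y : GL chevD4.Idx L) ∈ chevD4.diagonalSubgroup L := by
    have e := congrArg Subtype.val hy'
    simp only [Subgroup.coe_subtype, Subgroup.coe_mul, InvMemClass.coe_inv] at e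
    rw [hY, ← e]
    exact y'.2
  have hY7 : Y ^ 7 = 1 := by rw [hY, conj_pow, hX7]; simp
  have hTY : Commute T₀ Y := by
    rw [hY]; exact ((hhT.symm.mul_right hXT.symm).mul_right hhT.symm.inv_right)
  set G' := h * G * h⁻¹
  have hG'T : G' * T₀ * G'⁻¹ = T₀ := by
    rw [mul_inv_eq_iff_eq_mul]
    exact ((hhT.mul_left hGT).mul_left hhT.inv_left).eq
  have hG'Y : G' * Y * G'⁻¹ = Y ^ 2 := by
    rw [hY, conj_pow, ← hGX]
    simp only [G']
    group
  have hT₀2 : T₀ ^ 2 = 1 := by
    refine Subtype.ext ?_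
    rw [SubmonoidClass.coe_pow, hT₀T, ← map_pow, OneMemClass.coe_one, ← map_one (torusHom chevD4 L)]
    congr 1
    funext i
    simp [signC]
  -- coordinates modulo fourteen
  obtain ⟨zz, hzz⟩ := exists_zmodHom (K := L) (m := 14) (by
    rw [Nat.card_eq_fintype_card]
    omega) (by norm_num)
  haveI : Fact (Nat.Prime 2) := ⟨Nat.prime_two⟩
  set ζ : Lˣ := zz (Multiplicative.ofAdd 2) with hζdef
  have hζ : orderOf ζ = 7 := by
    rw [hζdef, orderOf_injective zz hzz, orderOf_ofAdd_eq_addOrderOf]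
    exact addOrderOf_eq_prime (by rfl) (by decide)
  have hneg : zz (Multiplicative.ofAdd 7) = -1 := by
    have h1 : zz (Multiplicative.ofAdd 7) ^ 2 = 1 := by
      rw [← map_pow, ← ofAdd_nsmul, show (2 • (7 : ZMod 14)) = 0 from rfl, ofAdd_zero, map_one]
    have h2 : (zz (Multiplicative.ofAdd 7) : L) ^ 2 = 1 := by
      rw [← Units.val_pow_eq_pow_val, h1, Units.val_one]
    rcases sq_eq_one_iff.1 h2 with e | e
    · exfalso
      exact absurd (Multiplicative.ofAdd.injective ((hzz ((Units.ext e).trans (map_one zz).symm)).trans ofAdd_zero.symm))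
        (by decide)
    · exact Units.ext (e.trans (by simp))
  obtain ⟨α, hα⟩ := exists_coord_roots hh D4.smith_ok (ℓ := 7)
    (fun i => by
      rcases i with ⟨i, hi⟩
      have hi4 : i < 4 := hi
      interval_cases i <;> norm_num)
    hYT (by rw [← SubmonoidClass.coe_pow, hY7, OneMemClass.coe_one]) hζ
  let e0 : Fin chevD4.rank → ZMod 14 := fun i => if i.val = 1 then 0 else 1
  let lam : Fin chevD4.rank → ZMod 14 := fun i => 2 * (α i.val : ZMod 14) + 7 * e0 i
  set a := iota chevD4 (ZMod 14) lam with hadef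
  have ha : a ∈ CW chevD4 (ZMod 14) := ⟨lam, rfl⟩
  set W := Y * T₀ with hW
  have hWtor : tor zz (Multiplicative.ofAdd a) = (W : GL chevD4.Idx L) := by
    rw [hadef, tor_iota, hW, Subgroup.coe_mul, ← hα, hT₀T, ← map_mul]
    refine ChevField.torusHom_congr fun i hi => ?_
    rw [zcoord, dif_pos hi, Pi.mul_apply]
    show zz (Multiplicative.ofAdd (2 * (α i : ZMod 14) + 7 * e0 ⟨i, hi⟩)) = ζ ^ α i * signC L i
    rw [ofAdd_add, map_mul]
    congr 1
    · rw [hζdef, ← map_zpow, ← ofAdd_zsmul, zsmul_eq_mul, mul_comm]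
    · by_cases h1 : i = 1
      · simp [e0, signC, h1]
      · simp only [e0, signC, if_neg h1, mul_one, hneg]
  have hW9 : G' * W * G'⁻¹ = W ^ 9 := by
    have h9 : W ^ 9 = Y ^ 2 * T₀ := by
      rw [hW, hTY.symm.mul_pow, show Y ^ 9 = Y ^ 2 by rw [show 9 = 7 + 2 from rfl, pow_add, hY7, one_mul],
        show T₀ ^ 9 = T₀ by rw [show 9 = 2 * 4 + 1 from rfl, pow_add, pow_mul, hT₀2, one_pow, one_mul, pow_one]]
    rw [h9, ← hG'Y, hW]
    conv_rhs => rw [← hG'T]
    group
  obtain ⟨Lw, u₁, t₁, u, hLw, -, -, -, -, hfacts⟩ := H59.F4Graph.twist_data hh (hel := (G' : GL chevD4.Idx L)) G'.2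
  have hact := (hfacts 14 zz hzz a 9 ha (by
    rw [show (9 : ZMod 14) = ((9 : ℕ) : ZMod 14) from rfl, tor_smul, hWtor, ← SubmonoidClass.coe_pow, ← hW9]
    simp [mul_assoc])).1
  have hzero := eigen_eq_zero hLw ha (fun l => by
    rw [hadef, iota_apply, map_sum]
    simp only [lam, e0, map_mul, map_add, map_intCast, apply_ite (ZMod.castHom (show 2 ∣ 14 by norm_num) (ZMod 2)),
      map_zero, map_one]
    rw [show (ZMod.castHom (show 2 ∣ 14 by norm_num) (ZMod 2)) (2 : ZMod 14) = 0 from rfl,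
      show (ZMod.castHom (show 2 ∣ 14 by norm_num) (ZMod 2)) (7 : ZMod 14) = 1 from rfl]
    simp only [zero_mul, zero_add, one_mul]
    exact par_check l) hact
  have hW10 : W ^ 10 = 1 := by
    refine Subtype.ext ?_
    rw [SubmonoidClass.coe_pow, ← hWtor, ← tor_smul, show ((10 : ℕ) : ZMod 14) = (10 : ZMod 14) from rfl, hzero,
      ofAdd_zero, map_one, OneMemClass.coe_one]
  rw [hW, hTY.symm.mul_pow, show T₀ ^ 10 = 1 by rw [show 10 = 2 * 5 from rfl, pow_mul, hT₀2, one_pow], mul_one,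
    show Y ^ 10 = Y ^ 3 by rw [show 10 = 7 + 3 from rfl, pow_add, hY7, one_mul]] at hW10
  have hY1 : Y = 1 := by
    rw [← pow_one Y, show 1 = 7 * 1 + (3 * 5) - 21 from rfl]
    calc Y ^ (7 * 1 + 3 * 5 - 21) = Y ^ 1 := rfl
      _ = (Y ^ 3) ^ 5 * ((Y ^ 7) ^ 2)⁻¹ := by group
      _ = 1 := by rw [hW10, hY7]; simp
  exact hX1 (conj_eq_one_iff.1 (hY ▸ hY1))

end Cfsg.Agent.Lib.TrialityEight
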