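import Cfsg.Agent.Lib.TrialityEight.Centralizer
import Cfsg.Agent.Lib.AltSections.TrialityFive
import Cfsg.Agent.Lib.G2Sections.TwoRank
import Cfsg.Agent.Lib.Triality.Main

/-!
For odd `q` the fixed points of triality over the field with `q` elements form a subgroup of odd index
of the triality group, so the latter has the involutions and the elementary abelian 2-subgroups of G2.
-/

set_option autoImplicit false

namespace Cfsg.Agent.Lib.TrialityEight

open Cfsg.Lie Cfsg.Agent.Lib.Chev Cfsg.Agent.Lib.AltSections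

variable {K : Type*} [Field K] [Fintype K] {q : ℕ}

theorem exists_g2_inside (hq : IsPrimePow q) (hK : Fintype.card K = q ^ 3) (h2q : ¬ 2 ∣ q) :
    ∃ (F : Subfield K) (j : ↥(chevG2.group ↥F) →* ↥(twistedD4 K q)),
      Nat.card ↥F = q ∧ Function.Injective j ∧ ¬ 2 ∣ j.range.index := by
  classical
  obtain ⟨φ, hφ, h3⟩ := Twisted.Core.d4_powAut hq hK
  set F : Subfield K := RingHom.eqLocusField φ.toRingHom (RingHom.id K) with hFdef
  have hF : Nat.card ↥F = q :=
    (Nat.card_congr (Equiv.subtypeEquivRight fun a => Iff.rfl)).trans (Twisted.Core.d4_fix_card hq hK hφ)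
  letI : Fintype ↥F := Fintype.ofFinite _
  obtain ⟨e⟩ := Triality.fixed_iso (F := ↥F)
  have hmem : ∀ g : ↥(Triality.fixedGroup ↥F),
      ChevField.glMap chevD4 F.subtype (g : GL chevD4.Idx ↥F) ∈ twistedD4 K q := by
    intro g
    obtain ⟨hgG, hga⟩ := Triality.mem_fixedGroup.1 g.2
    have hG := ChevField.glMap_group_le F.subtype (Subgroup.mem_map_of_mem _ hgG)
    have ha : Triality.alpha K (ChevField.glMap chevD4 F.subtype (g : GL chevD4.Idx ↥F)) =
        ChevField.glMap chevD4 F.subtype (g : GL chevD4.Idx ↥F) := by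
      rw [← TrialityTorus.glMap_alpha, hga]
    show _ ∈ (Twisted.Core.d4Orbits hq hK φ hφ h3).system.G
    rw [(Twisted.Core.d4Orbits hq hK φ hφ h3).system.eq_fixedGroup, Twisted.Core.Twist.mem_fixedGroup]
    refine ⟨hG, ?_⟩
    rw [Twisted.Core.Twist.sig_eq _ hG]
    refine Units.ext ?_
    conv_rhs => rw [← ha]
    show Twisted.GraphData.conjMap Twisted.d4Graph_facts K
        ((((g : GL chevD4.Idx ↥F) : Matrix chevD4.Idx chevD4.Idx ↥F).map F.subtype).map φ) =
      Twisted.GraphData.conjMap Twisted.d4Graph_facts K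
        (((g : GL chevD4.Idx ↥F) : Matrix chevD4.Idx chevD4.Idx ↥F).map F.subtype)
    congr 1
    ext a b
    exact ((g : GL chevD4.Idx ↥F).1 a b).2
  let i : ↥(Triality.fixedGroup ↥F) →* ↥(twistedD4 K q) :=
    ((ChevField.glMap chevD4 F.subtype).comp (Triality.fixedGroup ↥F).subtype).codRestrict _ hmem
  have hi : Function.Injective i := fun u v h =>
    Subtype.ext (ChevField.glMap_injective _ (congrArg Subtype.val h))
  have hie : Function.Injective (i.comp e.symm.toMonoidHom) := fun u v h => e.symm.injective (hi h)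
  refine ⟨F, i.comp e.symm.toMonoidHom, hF, hie, ?_⟩
  have hcF : Nat.card ↥(chevG2.group ↥F) = q ^ 6 * (q ^ 2 - 1) * (q ^ 6 - 1) :=
    Cfsg.Agent.S1059.result (F := ↥F) (by rw [← Nat.card_eq_fintype_card, hF])
  have hr : Nat.card (i.comp e.symm.toMonoidHom).range = q ^ 6 * (q ^ 2 - 1) * (q ^ 6 - 1) := by
    rw [← hcF]
    exact (Nat.card_congr (MonoidHom.ofInjective hie).toEquiv).symm
  have hmul := Subgroup.card_mul_index (i.comp e.symm.toMonoidHom).range
  rw [hr, Twisted.Core.d4_card hq hK] at hmul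
  have hidx : (i.comp e.symm.toMonoidHom).range.index = q ^ 6 * (q ^ 8 + q ^ 4 + 1) := by
    refine Nat.eq_of_mul_eq_mul_left ?_ (hmul.trans ?_)
    · rw [← hr]; exact Nat.card_pos
    · ring
  rw [hidx]
  intro hd
  have h2 : q % 2 = 1 := by omega
  rw [Nat.dvd_iff_mod_eq_zero, Nat.mul_mod, Nat.add_mod, Nat.add_mod (q ^ 8), Nat.pow_mod,
    Nat.pow_mod q 8, Nat.pow_mod q 4, h2] at hd
  norm_num at hd

/-- An elementary abelian 2-subgroup has order at most eight. -/
theorem card_le_eight (hq : IsPrimePow q) (hK : Fintype.card K = q ^ 3) (h2q : ¬ 2 ∣ q)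
    (A : Subgroup ↥(twistedD4 K q)) (hc : ∀ a ∈ A, ∀ b ∈ A, a * b = b * a) (hs : ∀ a ∈ A, a * a = 1) :
    Nat.card A ≤ 8 := by
  classical
  obtain ⟨F, j, hF, hj, hidx⟩ := exists_g2_inside hq hK h2q
  letI : Fintype ↥F := Fintype.ofFinite _
  haveI : Fact (Nat.Prime 2) := ⟨Nat.prime_two⟩
  obtain ⟨h, hh⟩ := exists_conj_mem_of_not_dvd_index j.range hidx A
    (fun a => ⟨1, Subtype.ext (by rw [pow_one, SubmonoidClass.coe_pow, pow_two, hs _ a.2]; rfl)⟩)
  have hodd : Odd (Fintype.card ↥F) := by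
    rw [← Nat.card_eq_fintype_card, hF, Nat.odd_iff]; omega
  let c : ↥(twistedD4 K q) →* ↥(twistedD4 K q) := (MulAut.conj h).toMonoidHom
  let B : Subgroup ↥(chevG2.group ↥F) := (A.map c).comap j
  have hB : Nat.card B = Nat.card A := by
    rw [Nat.card_congr (A.equivMapOfInjective c (MulAut.conj h).injective).toEquiv]
    refine Nat.card_congr (Equiv.ofBijective (fun b => ⟨j b.1, b.2⟩) ⟨fun u v e =>
      Subtype.ext (hj (congrArg Subtype.val e)), ?_⟩)
    rintro ⟨y, a, ha, rfl⟩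
    obtain ⟨b, hb⟩ := hh a ha
    exact ⟨⟨b, ⟨a, ha, hb.symm⟩⟩, Subtype.ext hb⟩
  rw [← hB]
  refine G2Sections.card_le_eight hodd B ?_ ?_
  · rintro u ⟨a, ha, hau⟩ v ⟨b, hb, hbv⟩
    exact hj (by rw [map_mul, map_mul, ← hau, ← hbv, ← map_mul, ← map_mul, hc a ha b hb])
  · rintro u ⟨a, ha, hau⟩
    exact hj (by rw [map_mul, ← hau, ← map_mul, hs a ha, map_one, map_one])

/-- Any two involutions are conjugate. -/
theorem isConj_invT (hq : IsPrimePow q) (hK : Fintype.card K = q ^ 3) (h2q : ¬ 2 ∣ q)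
    (h2 : (2 : K) ≠ 0) (t : ↥(twistedD4 K q)) (ht : orderOf t = 2) : IsConj t (invT hq hK) := by
  classical
  obtain ⟨F, j, hF, hj, hidx⟩ := exists_g2_inside hq hK h2q
  letI : Fintype ↥F := Fintype.ofFinite _
  haveI : Fact (Nat.Prime 2) := ⟨Nat.prime_two⟩
  obtain ⟨e⟩ := G2Inv.nonempty_iso (F := ↥F)
  have key : ∀ s : ↥(twistedD4 K q), orderOf s = 2 → IsConj s (j (e.symm (G2Inv.tStd ↥F))) := by
    intro s hs
    obtain ⟨h, hh⟩ := exists_conj_mem_of_not_dvd_index j.range hidx (Subgroup.zpowers s)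
      (IsPGroup.of_card (n := 1) (by rw [Nat.card_zpowers, hs, pow_one]))
    obtain ⟨a, ha⟩ := hh s (Subgroup.mem_zpowers s)
    have hss : s * s = 1 := by rw [← pow_two, ← hs, pow_orderOf_eq_one]
    have haa : a * a = 1 := hj (by
      rw [map_mul, ha, map_one, show h * s * h⁻¹ * (h * s * h⁻¹) = h * (s * s) * h⁻¹ by group, hss]
      group)
    have ha1 : e a ≠ 1 := fun e1 => by
      rw [show a = 1 from e.injective (e1.trans (map_one e).symm), map_one, eq_comm, conj_eq_one_iff] at ha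
      rw [ha, orderOf_one] at hs
      norm_num at hs
    have h2F : (2 : ↥F) ≠ 0 := fun e0 => h2 (by simpa [map_ofNat] using congrArg F.subtype e0)
    obtain ⟨g, hg⟩ := G2Inv.exists_conj_tStd h2F (t := e a) (by rw [← map_mul, haa, map_one]) ha1
    have h1 : IsConj s (h * s * h⁻¹) := isConj_iff.2 ⟨h, rfl⟩
    rw [← ha] at h1
    refine h1.trans ((MonoidHom.map_isConj j) (isConj_iff.2 ⟨e.symm g, ?_⟩))
    rw [← hg, map_mul, map_mul, map_inv, e.symm_apply_apply]
  exact (key t ht).trans (key _ (orderOf_invT hq hK h2)).symm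

end Cfsg.Agent.Lib.TrialityEight
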