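import Cfsg.Agent.Lib.TrialityEight.G2Inside
import Cfsg.Agent.Lib.G2Sections.AltEight
import Cfsg.Agent.Lib.AltSections.SectionLift

/-!
In characteristic five the alternating group of degree eight is not a section of a triality group.
-/

set_option autoImplicit false

namespace Cfsg.Agent.Lib.TrialityEight

open Cfsg.Lie Cfsg.Agent.Lib.Chev Cfsg.Agent.Lib.AltSections Equiv

variable {K : Type*} [Field K] [Fintype K] {q : ℕ}

/-- The subgroups of seven-power order are commutative. -/
theorem seven_commute (p : ℕ) [Fact p.Prime] [CharP K p] (hq : IsPrimePow q) (hK : Fintype.card K = q ^ 3)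
    (h7q : ¬ 7 ∣ q) (S : Subgroup ↥(twistedD4 K q)) (hS : IsPGroup 7 S) :
    ∀ a ∈ S, ∀ b ∈ S, a * b = b * a := by
  classical
  haveI : Fact (Nat.Prime 7) := ⟨by norm_num⟩
  let L := FiniteField.Extension K p 6
  letI : Fintype L := Fintype.ofFinite L
  have hL7 : Fintype.card L % 7 = 1 := by
    rw [← Nat.card_eq_fintype_card, FiniteField.natCard_extension, Nat.card_eq_fintype_card, hK, ← pow_mul,
      Nat.pow_mod]
    have hlt : q % 7 < 7 := Nat.mod_lt _ (by norm_num)
    rw [Nat.dvd_iff_mod_eq_zero] at h7q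
    generalize q % 7 = r at hlt h7q ⊢
    interval_cases r <;> first | omega | norm_num
  obtain ⟨φ, hφ, -⟩ := Twisted.Core.d4_powAut hq hK
  let ι : K →+* L := algebraMap K L
  let j : ↥(twistedD4 K q) →* ↥(chevD4.group L) :=
    ((ChevField.glMap chevD4 ι).comp (twistedD4 K q).subtype).codRestrict _ fun u =>
      ChevField.glMap_group_le ι (Subgroup.mem_map_of_mem _
        (TrialityTorus.fixed_of_mem q hK φ.toRingHom hφ u.2).1)
  have hj : Function.Injective j := fun u v e =>
    Subtype.ext (ChevField.glMap_injective ι (congrArg Subtype.val e))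
  intro a ha b hb
  refine hj ?_
  rw [map_mul, map_mul]
  exact commute_of_isPGroup Triality.rooted_four D4.smith_ok D4.chain_ok D4.poly_ok rfl (K := L) hL7
    (by decide) (S.map j) (hS.map j) _ (Subgroup.mem_map_of_mem _ ha) _ (Subgroup.mem_map_of_mem _ hb)

/-- A seven cycle sent to its square by an even permutation. -/
theorem exists_seven_pair : ∃ s t : ↥(alternatingGroup (Fin 8)),
    s ≠ 1 ∧ s ^ 7 = 1 ∧ t * s * t⁻¹ = s ^ 2 := by
  refine ⟨⟨swap 0 1 * swap 1 2 * swap 2 3 * swap 3 4 * swap 4 5 * swap 5 6,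
      Perm.mem_alternatingGroup.2 (by decide +kernel)⟩,
    ⟨swap 1 2 * swap 2 4 * (swap 3 6 * swap 6 5), Perm.mem_alternatingGroup.2 (by decide +kernel)⟩, ?_, ?_, ?_⟩
  all_goals decide +kernel

variable (p : ℕ) [Fact p.Prime] [CharP K p]

include p in
/-- The kernel of a minimal cover of the alternating group of degree eight has odd order. -/
theorem odd_card_ker (hq : IsPrimePow q) (hK : Fintype.card K = q ^ 3) (h2q : ¬ 2 ∣ q) (h7q : ¬ 7 ∣ q)
    (h2 : (2 : K) ≠ 0) (H : Subgroup ↥(twistedD4 K q))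
    (f : H →* ↥(alternatingGroup (Fin 8))) (hf : Function.Surjective f)
    (hmin : ∀ M : Subgroup H, M.map f = ⊤ → M = ⊤) : Odd (Nat.card f.ker) := by
  classical
  haveI : IsSimpleGroup ↥(alternatingGroup (Fin 8)) := alternatingGroup.isSimpleGroup (by simp)
  have hfrat : f.ker ≤ frattini H := by
    refine le_iInf₂ fun M hM => ?_
    by_contra hle
    have hM' : IsCoatom M := hM
    have h1 : M ⊔ f.ker = ⊤ := hM'.2 _ (lt_of_le_of_ne le_sup_left fun e => hle (sup_eq_left.1 e.symm))
    refine hM'.1 (hmin M ?_)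
    have := congrArg (Subgroup.map f) h1
    rwa [Subgroup.map_sup, (Subgroup.map_eq_bot_iff _).2 le_rfl, sup_bot_eq,
      Subgroup.map_top_of_surjective f hf] at this
  haveI : Group.IsNilpotent (frattini H) := frattini_nilpotent
  haveI : Group.IsNilpotent f.ker :=
    (Group.isNilpotent_congr (Subgroup.subgroupOfEquivOfLe hfrat)).1 inferInstance
  haveI : Fact (Nat.Prime 2) := ⟨Nat.prime_two⟩
  by_contra heven
  rw [Nat.not_odd_iff_even, even_iff_two_dvd] at heven
  obtain ⟨Q⟩ : Nonempty (Sylow 2 f.ker) := inferInstance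
  haveI hQn : (Q : Subgroup f.ker).Normal := inferInstance
  haveI : (Q : Subgroup f.ker).Characteristic := Q.characteristic_of_normal hQn
  let Qh : Subgroup H := (Q : Subgroup f.ker).map f.ker.subtype
  haveI hQh : Qh.Normal := ConjAct.normal_of_characteristic_of_normal
  have hQ2 : IsPGroup 2 Qh := Q.2.map _
  have hQhne : Nontrivial Qh := by
    rw [Subgroup.nontrivial_iff_ne_bot, Ne, Subgroup.map_eq_bot_iff_of_injective _ f.ker.subtype_injective]
    exact Q.ne_bot_of_dvd_card heven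
  let Zc : Subgroup H := (Subgroup.center Qh).map Qh.subtype
  haveI hZn : Zc.Normal := ConjAct.normal_of_characteristic_of_normal
  have hZcomm : ∀ a ∈ Zc, ∀ b ∈ Zc, a * b = b * a := by
    rintro _ ⟨a, ha, rfl⟩ _ ⟨b, -, rfl⟩
    exact congrArg Subtype.val (Subgroup.mem_center_iff.1 ha b).symm
  let A : Subgroup H :=
    { carrier := {x | x ∈ Zc ∧ x * x = 1}
      one_mem' := ⟨one_mem _, one_mul 1⟩
      mul_mem' := by
        rintro a b ⟨ha, ha2⟩ ⟨hb, hb2⟩
        refine ⟨mul_mem ha hb, ?_⟩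
        rw [mul_assoc, ← mul_assoc b, hZcomm b hb a ha, mul_assoc, ← mul_assoc a, ha2, hb2, one_mul]
      inv_mem' := by
        rintro a ⟨ha, ha2⟩
        exact ⟨inv_mem ha, by rw [← _root_.mul_inv_rev, ha2, inv_one]⟩ }
  have hA8le : Nat.card A ≤ 8 := by
    rw [Nat.card_congr (A.equivMapOfInjective _ H.subtype_injective).toEquiv]
    refine card_le_eight hq hK h2q _ ?_ ?_
    · rintro _ ⟨a, ha, rfl⟩ _ ⟨b, hb, rfl⟩; rw [← map_mul, ← map_mul, hZcomm a ha.1 b hb.1]
    · rintro _ ⟨a, ha, rfl⟩; rw [← map_mul, ha.2, map_one]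
  haveI hAn : A.Normal := by
    refine ⟨fun a ha g => ⟨hZn.conj_mem a ha.1 g, ?_⟩⟩
    rw [show g * a * g⁻¹ * (g * a * g⁻¹) = g * (a * a) * g⁻¹ by group, ha.2]
    group
  haveI := hQ2.center_nontrivial
  obtain ⟨z, hz⟩ := exists_prime_orderOf_dvd_card' (G := Subgroup.center Qh) 2 (by
    obtain ⟨k, hk0, hk⟩ := (hQ2.to_subgroup (Subgroup.center Qh)).nontrivial_iff_card.1 inferInstance
    rw [hk]
    exact dvd_pow_self 2 hk0.ne')
  have hzo : orderOf ((z : Qh) : H) = 2 := by rw [Subgroup.orderOf_coe, Subgroup.orderOf_coe, hz]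
  have hzA : ((z : Qh) : H) ∈ A :=
    ⟨Subgroup.mem_map_of_mem _ z.2, by rw [← pow_two, ← hzo, pow_orderOf_eq_one]⟩
  let act : H →* MulAut A := MulAut.conjNormal
  haveI : (act.ker.map f).Normal := Subgroup.Normal.map inferInstance f hf
  rcases (inferInstance : (act.ker.map f).Normal).eq_bot_or_eq_top with h0 | h1
  · have hle : act.ker ≤ f.ker := fun x hx => by
      have : f x ∈ act.ker.map f := Subgroup.mem_map_of_mem f hx
      rw [h0] at this
      exact this
    have hd := Subgroup.index_dvd_of_le hle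
    rw [Subgroup.index_ker, Subgroup.index_ker, MonoidHom.range_eq_top.2 hf, Subgroup.card_top,
      G2Sections.card_altEight] at hd
    have hb : Nat.card act.range ≤ 5040 :=
      le_trans (Subgroup.card_le_card_group _) (G2Sections.card_mulAut_le hA8le)
    have := Nat.le_of_dvd Nat.card_pos hd
    omega
  · have hzc : ∀ h : H, Commute h ((z : Qh) : H) := fun h => by
      have hh : h ∈ act.ker := by rw [hmin _ h1]; trivial
      have := congrArg (fun e : MulAut A => ((e ⟨_, hzA⟩ : A) : H)) hh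
      simp only [act, MulAut.conjNormal_apply, MulAut.one_apply] at this
      exact mul_inv_eq_iff_eq_mul.1 this
    haveI : Fact (Nat.Prime 7) := ⟨by norm_num⟩
    obtain ⟨s₀, t₀, hs, hs7, hst⟩ := exists_seven_pair
    obtain ⟨s, rfl⟩ := hf s₀
    obtain ⟨t, rfl⟩ := hf t₀
    obtain ⟨x, g, hx, hx7, hg⟩ := exists_conj_pow_lift f 7 2 (by norm_num) s t hs hs7 hst
      (fun S hS a ha b hb => Subtype.ext (seven_commute p hq hK h7q (S.map H.subtype) (hS.map _)
        _ (Subgroup.mem_map_of_mem _ ha) _ (Subgroup.mem_map_of_mem _ hb)))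
    refine not_seven_centralized p hq hK h2q h7q (((z : Qh) : H) : ↥(twistedD4 K q)) (x : ↥(twistedD4 K q))
      (g : ↥(twistedD4 K q)) (isConj_invT hq hK h2q h2 _ (by rw [Subgroup.orderOf_coe, hzo]))
      (fun e => hx (Subtype.ext e)) (by rw [← SubmonoidClass.coe_pow, hx7]; rfl)
      ((hzc x).map H.subtype) ((hzc g).map H.subtype) ?_
    rw [← InvMemClass.coe_inv, ← Subgroup.coe_mul, ← Subgroup.coe_mul, hg]
    rfl

include p in
/-- A minimal subgroup mapping onto the alternating group of degree eight does not exist. -/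
theorem no_altEight_min (hq : IsPrimePow q) (hK : Fintype.card K = q ^ 3) (h2q : ¬ 2 ∣ q) (h7q : ¬ 7 ∣ q)
    (h2 : (2 : K) ≠ 0) (H : Subgroup ↥(twistedD4 K q))
    (f : H →* ↥(alternatingGroup (Fin 8))) (hf : Function.Surjective f)
    (hmin : ∀ M : Subgroup H, M.map f = ⊤ → M = ⊤) : False := by
  classical
  have hodd := odd_card_ker p hq hK h2q h7q h2 H f hf hmin
  haveI : Fact (Nat.Prime 2) := ⟨Nat.prime_two⟩
  obtain ⟨V, hV16, hVc, hVs⟩ := G2Sections.exists_subgroup_sixteen
  let P : Subgroup H := V.comap f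
  obtain ⟨B, hB⟩ := Sylow.exists_subgroup_card_pow_prime (G := P) 2 (n := 4) (by
    refine dvd_trans (dvd_of_eq (by rw [hV16]; norm_num : 2 ^ 4 = Nat.card V)) ?_
    have : P.map f = V := Subgroup.map_comap_eq_self_of_surjective hf V
    rw [← this]
    exact Subgroup.card_map_dvd _ _)
  let B₀ : Subgroup H := B.map P.subtype
  have hB₀ : Nat.card B₀ = 16 := by
    rw [← Nat.card_congr (B.equivMapOfInjective _ P.subtype_injective).toEquiv, hB]; norm_num
  have hinj : ∀ b ∈ B₀, f b = 1 → b = 1 := by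
    intro b hb hfb
    have h1 : orderOf b ∣ 16 := by rw [← hB₀]; exact Subgroup.orderOf_dvd_natCard _ hb
    have h2' : orderOf b ∣ Nat.card f.ker := Subgroup.orderOf_dvd_natCard _ hfb
    have hco : Nat.Coprime 16 (Nat.card f.ker) := by
      rw [show (16 : ℕ) = 2 ^ 4 by norm_num]
      exact Nat.Coprime.pow_left _ (Nat.coprime_two_left.2 hodd)
    exact orderOf_eq_one_iff.1 (Nat.eq_one_of_dvd_coprimes hco h1 h2')
  have hBV : ∀ b ∈ B₀, f b ∈ V := by
    rintro _ ⟨b, -, rfl⟩; exact b.2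
  have heq : ∀ b ∈ B₀, ∀ c ∈ B₀, f b = f c → b = c := fun b hb c hc h => by
    have := hinj (b * c⁻¹) (mul_mem hb (inv_mem hc)) (by rw [map_mul, map_inv, h, mul_inv_cancel])
    exact mul_inv_eq_one.1 this
  have h8 : Nat.card (B₀.map H.subtype) ≤ 8 := by
    refine card_le_eight hq hK h2q _ ?_ ?_
    · rintro _ ⟨a, ha, rfl⟩ _ ⟨b, hb, rfl⟩
      rw [← map_mul, ← map_mul, heq _ (mul_mem ha hb) _ (mul_mem hb ha)
        (by rw [map_mul, map_mul, hVc _ (hBV a ha) _ (hBV b hb)])]
    · rintro _ ⟨a, ha, rfl⟩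
      rw [← map_mul, heq _ (mul_mem ha ha) _ (one_mem _) (by rw [map_mul, hVs _ (hBV a ha), map_one]),
        map_one]
  rw [← Nat.card_congr (B₀.equivMapOfInjective _ H.subtype_injective).toEquiv, hB₀] at h8
  omega

end Cfsg.Agent.Lib.TrialityEight
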