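import Cfsg.Agent.Lib.H59.F4Graph.Toral
import Cfsg.Agent.Lib.Triality.Counting

/-!
The Weyl elements of D4 fixing the class of a triality-stable involution have exponent four, so the torus
elements they move to a multiple of themselves are restricted.
-/

set_option autoImplicit false

namespace Cfsg.Agent.Lib.TrialityEight

open Cfsg.Lie Cfsg.Agent.Lib.Chev Cfsg.Agent.Lib.H59.Homocyclic

/-- The image of a fundamental root in a code. -/
def imgCode (m l : ℕ) : ℕ :=
  bif Nat.beq l 0 then m / 32768 else bif Nat.beq l 1 then m / 1024 % 32 else bif Nat.beq l 2 then m / 32 % 32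
  else m % 32

/-- The matrix of a code. -/
def codeMat (m l j : ℕ) : ℤ := coef chevD4 D4.cert j (imgCode m l)

/-- The square of a matrix given as a function. -/
def sqFun (M : ℕ → ℕ → ℤ) (i j : ℕ) : ℤ := M i 0 * M 0 j + M i 1 * M 1 j + M i 2 * M 2 j + M i 3 * M 3 j

/-- Codes preserving the parity of the central coefficient have fourth power one. -/
def chkStab : Bool :=
  Triality.weylCodes.all fun m =>
    !(allN 4 fun l => decide (codeMat m l 1 % 2 = if l = 1 then 1 else 0)) ||
      allN 4 fun i => allN 4 fun j => decide (sqFun (sqFun (codeMat m)) i j = if i = j then 1 else 0)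

set_option maxRecDepth 100000 in
theorem chkStab_ok : chkStab = true := by decide +kernel

variable {R : Type*} [CommRing R]

theorem cw_apply_eq_sum {D : ChevalleyDatum} {C : Cert} (h : Checked D C) {a : Fin D.nroots → R} (ha : a ∈ CW D R)
    (r : Fin D.nroots) : a r = ∑ j : Fin D.rank, (coef D C j.val r.val : R) * a ⟨D.simple j.val, h.simple_lt j.2⟩ := by
  obtain ⟨lam, rfl⟩ := ha
  simp only [iota_apply, Finset.mul_sum]
  rw [Finset.sum_comm]
  refine Finset.sum_congr rfl fun i _ => ?_
  rw [h.cartan_eq i.2 r.2, zsum_eq, Int.cast_sum, Finset.sum_range, Finset.sum_mul]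
  refine Finset.sum_congr rfl fun j _ => ?_
  rw [h.cartan_simple i.2 j.2]
  push_cast
  ring

/-- The parities of the values on the fundamental roots of the triality-stable involution. -/
def parVec (l : Fin 4) : ℤ := if l.val = 1 then 1 else 0

theorem eigen_eq_zero {L : List ℕ} (hL : IsWord chevD4 L) {a : Fin chevD4.nroots → ZMod 14}
    (ha : a ∈ CW chevD4 (ZMod 14))
    (hpar : ∀ l : Fin 4, (ZMod.castHom (show 2 ∣ 14 by norm_num) (ZMod 2))
      (a ⟨chevD4.simple l.val, Triality.rooted_four.toChecked.simple_lt l.2⟩) = (parVec l : ZMod 2))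
    (he : act (wperm Triality.rooted_four.toChecked L) a = (9 : ZMod 14) • a) : (10 : ZMod 14) • a = 0 := by
  have h := Triality.rooted_four.toChecked
  set w := wperm h L with hw
  set u : Fin 4 → ZMod 14 := fun l => a ⟨chevD4.simple l.val, h.simple_lt l.2⟩ with hu
  set m := Triality.code4 (perm D4.cert L 18) (perm D4.cert L 14) (perm D4.cert L 13) (perm D4.cert L 12) with hm
  have himg : ∀ l : Fin 4, imgCode m l.val = perm D4.cert L (chevD4.simple l.val) := by
    have hlt : ∀ r < 24, perm D4.cert L r < 32 := fun r hr =>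
      lt_trans (Checked.perm_lt h hL hr) (by decide)
    obtain ⟨e1, e2, e3, e4⟩ := Triality.code4_inj (a := perm D4.cert L 18) (hlt 14 (by norm_num)) (hlt 13 (by norm_num))
      (hlt 12 (by norm_num))
    intro l
    fin_cases l
    · exact e1
    · exact e2
    · exact e3
    · exact e4
  set M : Matrix (Fin 4) (Fin 4) ℤ := Matrix.of fun l j => codeMat m l.val j.val with hM
  have hMu : (M.map (Int.castRingHom (ZMod 14))).mulVec u = (11 : ZMod 14) • u := by
    funext l
    have hr : chevD4.simple l.val < chevD4.nroots := h.simple_lt l.2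
    have h1 : a (w ⟨chevD4.simple l.val, hr⟩) = (11 : ZMod 14) * a ⟨chevD4.simple l.val, hr⟩ := by
      have := congrFun he (w ⟨chevD4.simple l.val, hr⟩)
      rw [act_apply, Pi.smul_apply, smul_eq_mul] at this
      simp only [Equiv.Perm.inv_def, Equiv.symm_apply_apply] at this
      rw [this, ← mul_assoc, show (11 : ZMod 14) * 9 = 1 from rfl, one_mul]
    rw [cw_apply_eq_sum h ha, h.wperm_val hL] at h1
    show ∑ j : Fin 4, ((M l j : ℤ) : ZMod 14) * u j = (11 : ZMod 14) * u l
    rw [← h1]
    refine Finset.sum_congr rfl fun j _ => ?_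
    show ((coef chevD4 D4.cert j.val (imgCode m l.val) : ℤ) : ZMod 14) * _ = _
    rw [himg]
  have hstab : ∀ l : Fin 4, codeMat m l.val 1 % 2 = if l.val = 1 then 1 else 0 := by
    intro l
    have h2 := congrArg (ZMod.castHom (show 2 ∣ 14 by norm_num) (ZMod 2)) (congrFun hMu l)
    simp only [Matrix.mulVec, dotProduct, Pi.smul_apply, smul_eq_mul, map_sum, map_mul, Matrix.map_apply,
      Int.coe_castRingHom, map_intCast, hu, hpar] at h2
    have h11 : (ZMod.castHom (show 2 ∣ 14 by norm_num) (ZMod 2)) (11 : ZMod 14) = 1 := by rfl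
    simp only [h11, one_mul, Fin.sum_univ_four, parVec] at h2
    simp [hM] at h2
    have h3 : ((codeMat m l.val 1 : ℤ) : ZMod 2) = (((if l.val = 1 then 1 else 0 : ℤ)) : ZMod 2) := by
      rw [h2]; split_ifs <;> simp
    rw [ZMod.intCast_eq_intCast_iff'] at h3
    split_ifs at h3 ⊢ <;> simpa using h3
  have hM4 : M ^ 4 = 1 := by
    have hc := chkStab_ok
    simp only [chkStab, List.all_eq_true, Bool.or_eq_true, Bool.not_eq_true'] at hc
    rcases hc m (Triality.perm_code_mem hL) with hc | hc
    · refine absurd (allN_iff.2 fun l hl => decide_eq_true (hstab ⟨l, hl⟩)) (Bool.eq_false_iff.1 hc)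
    · simp only [allN_iff, decide_eq_true_iff] at hc
      rw [show M ^ 4 = M * M * (M * M) by simp only [pow_succ, pow_zero, one_mul, mul_assoc]]
      ext i j
      rw [Matrix.mul_apply, Fin.sum_univ_four, Matrix.one_apply]
      have := hc i.val i.2 j.val j.2
      simp only [sqFun] at this
      simp only [Matrix.mul_apply, Fin.sum_univ_four]
      simpa [hM, Fin.ext_iff] using this
  have h4 : u = ((11 : ZMod 14) ^ 4) • u := by
    have hp : ∀ n : ℕ, ((M ^ n).map (Int.castRingHom (ZMod 14))).mulVec u = ((11 : ZMod 14) ^ n) • u := by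
      intro n
      induction n with
      | zero => simp
      | succ n ih =>
        rw [pow_succ', pow_succ, Matrix.map_mul, ← Matrix.mulVec_mulVec, ih, Matrix.mulVec_smul, hMu, smul_smul]
    have := hp 4
    rw [hM4] at this
    simpa using this
  have hu0 : ∀ l, (10 : ZMod 14) * u l = 0 := fun l => by
    have := congrFun h4 l
    rw [Pi.smul_apply, smul_eq_mul, show (11 : ZMod 14) ^ 4 = 10 + 1 from rfl, add_mul, one_mul] at this
    simpa using this
  funext r
  rw [Pi.smul_apply, smul_eq_mul, cw_apply_eq_sum h ha, Finset.mul_sum, Pi.zero_apply]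
  exact Finset.sum_eq_zero fun j _ => by
    rw [mul_left_comm, show (10 : ZMod 14) * a ⟨chevD4.simple j.val, h.simple_lt j.2⟩ = 0 from hu0 j, mul_zero]

end Cfsg.Agent.Lib.TrialityEight
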